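import Groth.Prelude.Def_W4bk4bump814p2PDiff
import Mathlib.RingTheory.Kaehler.Basic
import Mathlib.RingTheory.WittVector.Teichmuller
import Mathlib.Algebra.MvPolynomial.PDeriv
import Mathlib.FieldTheory.Perfect
import Mathlib.Algebra.CharP.Defs

/-!
The filtration `Σ^i` of the Kaehler differentials of an algebra in characteristic `p`.
-/

set_option autoImplicit false

namespace Groth.Agent.PDiff

open MvPolynomial W4bk4bump814p2

universe u v

variable (K : Type u) (A : Type v) [CommRing K] [CommRing A] [Algebra K A] (p : ℕ)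

theorem D_aeval_pair (x y : A) (q : MvPolynomial (Fin 2) ℤ) :
    KaehlerDifferential.D K A (aeval ![x, y] q) =
      aeval ![x, y] (pderiv 0 q) • KaehlerDifferential.D K A x +
        aeval ![x, y] (pderiv 1 q) • KaehlerDifferential.D K A y := by
  induction q using MvPolynomial.induction_on with
  | C a => simp [map_intCast]
  | add a b ha hb => simp only [map_add, ha, hb, add_smul]; abel
  | mul_X a n ha =>
    rw [map_mul, Derivation.leibniz, ha, pderiv_mul, pderiv_mul]
    fin_cases n <;>
      simp [map_add, map_mul, add_smul, smul_add, mul_smul, smul_comm (aeval ![x, y] a), mul_comm] <;>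
      abel

theorem witt_deriv (hp : Fact p.Prime) (i : ℕ) :
    ∃ s : ℕ → MvPolynomial (Fin 2) ℤ, s 0 = X 0 + X 1 ∧ ∀ k : Fin 2,
      ∑ j ∈ Finset.range (i + 1), s j ^ (p ^ (i - j) - 1) * pderiv k (s j) =
        X k ^ (p ^ i - 1) := by
  refine ⟨fun j => (WittVector.teichmuller p (X 0 : MvPolynomial (Fin 2) ℤ) + WittVector.teichmuller p (X 1) : WittVector p (MvPolynomial (Fin 2) ℤ)).coeff j,
    by simp [WittVector.add_coeff_zero, WittVector.teichmuller_coeff_zero], fun k => ?_⟩
  set W : WittVector p (MvPolynomial (Fin 2) ℤ) :=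
    WittVector.teichmuller p (X 0) + WittVector.teichmuller p (X 1) with hW
  have h := WittVector.ghostComponent_apply i W
  rw [hW, map_add, WittVector.ghostComponent_teichmuller, WittVector.ghostComponent_teichmuller, ← hW,
    wittPolynomial_eq_sum_C_mul_X_pow, map_sum] at h
  simp only [map_mul, aeval_C, map_pow, aeval_X, eq_intCast, Int.cast_pow, Int.cast_natCast] at h
  have h' := congrArg (pderiv k) h
  simp only [map_add, map_sum, Derivation.leibniz, Derivation.leibniz_pow, pderiv_C,
    map_natCast, Derivation.map_natCast] at h'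
  have hne : ((p : MvPolynomial (Fin 2) ℤ) ^ i) ≠ 0 :=
    pow_ne_zero _ (Nat.cast_ne_zero.mpr hp.out.ne_zero)
  apply mul_left_cancel₀ hne
  rw [Finset.mul_sum]
  convert h'.symm using 1
  · refine Finset.sum_congr rfl fun j hj => ?_
    rw [Finset.mem_range] at hj
    simp only [smul_eq_mul, nsmul_eq_mul, smul_zero, add_zero, mul_zero, Nat.cast_pow]
    have e : (p : MvPolynomial (Fin 2) ℤ) ^ i = (p : MvPolynomial (Fin 2) ℤ) ^ j * (p : MvPolynomial (Fin 2) ℤ) ^ (i - j) := by
      rw [← pow_add]; congr 1; omega
    rw [e]; ring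
  · fin_cases k <;> simp [smul_eq_mul, nsmul_eq_mul, pderiv_X] <;> ring

/-- The subgroup generated by the images of `delta j`, `j < i`. -/
noncomputable def gen (i : ℕ) : AddSubgroup (Ω[A⁄K]) :=
  AddSubgroup.closure (⋃ j ∈ Finset.range i, Set.range (delta K A p j))

theorem delta_mem_gen {i j : ℕ} (h : j < i) (x : A) : delta K A p j x ∈ gen K A p i :=
  AddSubgroup.subset_closure (Set.mem_biUnion (Finset.mem_range.mpr h) ⟨x, rfl⟩)

theorem gen_mono {i j : ℕ} (h : i ≤ j) : gen K A p i ≤ gen K A p j := by
  refine (AddSubgroup.closure_le _).mpr ?_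
  simp only [Set.iUnion_subset_iff, Finset.mem_range]
  rintro k hk _ ⟨x, rfl⟩
  exact delta_mem_gen K A p (lt_of_lt_of_le hk h) x

theorem delta_zero_right (i : ℕ) : delta K A p i 0 = 0 := by
  simp [delta]

theorem defect_mem (hp : Fact p.Prime) (i : ℕ) (x y : A) :
    delta K A p i (x + y) - delta K A p i x - delta K A p i y ∈ gen K A p i := by
  obtain ⟨s, hs0, hs⟩ := witt_deriv p hp i
  have h : ∑ j ∈ Finset.range (i + 1), delta K A p (i - j) (aeval ![x, y] (s j)) =
      delta K A p i x + delta K A p i y := by
    have h0 := congrArg (aeval ![x, y]) (hs 0)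
    have h1 := congrArg (aeval ![x, y]) (hs 1)
    simp only [map_sum, map_mul, map_pow, aeval_X, Matrix.cons_val_zero, Matrix.cons_val_one] at h0 h1
    unfold delta
    simp only [D_aeval_pair, smul_add, smul_smul, Finset.sum_add_distrib, ← Finset.sum_smul, h0, h1]
  rw [Finset.sum_range_succ', Nat.sub_zero, hs0, map_add, aeval_X, aeval_X] at h
  simp only [Matrix.cons_val_zero, Matrix.cons_val_one] at h
  rw [sub_sub, ← h, sub_add_cancel_right]
  refine AddSubgroup.neg_mem _ (sum_mem fun j hj => delta_mem_gen K A p ?_ _)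
  rw [Finset.mem_range] at hj
  omega

theorem sigma_eq_gen (hp : Fact p.Prime) (i : ℕ) : sigma K A p i = gen K A p i := by
  induction i with
  | zero => simp [gen]
  | succ i ih =>
    let S : AddSubgroup (Ω[A⁄K]) :=
      { carrier := {ω | ∃ x : A, ω - delta K A p i x ∈ gen K A p i}
        zero_mem' := ⟨0, by simp [delta_zero_right]⟩
        add_mem' := by
          rintro a b ⟨x, hx⟩ ⟨y, hy⟩
          refine ⟨x + y, ?_⟩
          have e : a + b - delta K A p i (x + y) = (a - delta K A p i x) + (b - delta K A p i y) -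
              (delta K A p i (x + y) - delta K A p i x - delta K A p i y) := by abel
          rw [e]
          exact sub_mem (add_mem hx hy) (defect_mem K A p hp i x y)
        neg_mem' := by
          rintro a ⟨x, hx⟩
          refine ⟨-x, ?_⟩
          have d := defect_mem K A p hp i x (-x)
          rw [add_neg_cancel, delta_zero_right] at d
          have e : -a - delta K A p i (-x) = -(a - delta K A p i x) +
              (0 - delta K A p i x - delta K A p i (-x)) := by abel
          rw [e]
          exact add_mem (neg_mem hx) d }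
    have hS : S = gen K A p (i + 1) := by
      refine le_antisymm ?_ ?_
      · rintro ω ⟨x, hx⟩
        rw [← sub_add_cancel ω (delta K A p i x)]
        exact add_mem (gen_mono K A p i.le_succ hx) (delta_mem_gen K A p i.lt_succ_self x)
      · refine (AddSubgroup.closure_le _).mpr ?_
        simp only [Set.iUnion_subset_iff, Finset.mem_range]
        rintro k hk _ ⟨x, rfl⟩
        rcases Nat.lt_succ_iff_lt_or_eq.mp hk with hk | rfl
        · exact ⟨0, by simpa [delta_zero_right] using delta_mem_gen K A p hk x⟩
        · exact ⟨x, by simp⟩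
    rw [← hS, sigma_succ, ih]
    rfl

theorem smul_pow_mem_gen (hpA : (p : A) = 0) (i : ℕ) (x : A) {ω : Ω[A⁄K]}
    (hω : ω ∈ gen K A p i) : x ^ p ^ i • ω ∈ gen K A p i := by
  induction hω using AddSubgroup.closure_induction with
  | mem z hz =>
    simp only [Set.mem_iUnion, Finset.mem_range] at hz
    obtain ⟨j, hj, y, rfl⟩ := hz
    convert delta_mem_gen K A p hj (x ^ p ^ (i - j) * y) using 1
    have hD : KaehlerDifferential.D K A (x ^ p ^ (i - j)) = 0 := by
      rw [Derivation.leibniz_pow, ← Nat.cast_smul_eq_nsmul A, Nat.cast_pow, hpA,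
        zero_pow (Nat.sub_ne_zero_of_lt hj), zero_smul]
    unfold delta
    rw [Derivation.leibniz, hD, smul_zero, add_zero, smul_smul, smul_smul]
    congr 1
    rcases Nat.eq_zero_or_pos (p ^ j) with h0 | h0
    · rw [pow_eq_zero_iff'] at h0
      obtain ⟨rfl, hj0⟩ := h0
      simp [zero_pow hj0, zero_pow (show i ≠ 0 by omega), zero_pow (Nat.sub_ne_zero_of_lt hj)]
    · rw [mul_pow, mul_right_comm, ← pow_succ, ← pow_mul, Nat.sub_add_cancel h0]
      congr 2
      rw [← pow_add, Nat.sub_add_cancel hj.le]
  | zero => simp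
  | add a b _ _ ha hb => rw [smul_add]; exact add_mem ha hb
  | neg a _ ha => rw [smul_neg]; exact neg_mem ha

end Groth.Agent.PDiff

namespace Groth.Agent.PDiff

open W4bk4bump814p2

universe u' v'

variable (K : Type u') (A : Type v') [Field K] (p : ℕ) [Fact p.Prime] [CharP K p] [CommRing A] [Algebra K A]

omit [Fact p.Prime] in
include K in
theorem natCast_eq_zero : (p : A) = 0 := by
  rw [← map_natCast (algebraMap K A), CharP.cast_eq_zero, map_zero]

theorem smul_mem_gen [PerfectField K] (i : ℕ) (c : K) {ω : Ω[A⁄K]} (hω : ω ∈ gen K A p i) :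
    c • ω ∈ gen K A p i := by
  have : PerfectRing K p := PerfectField.toPerfectRing p
  induction hω using AddSubgroup.closure_induction with
  | mem z hz =>
    simp only [Set.mem_iUnion, Finset.mem_range] at hz
    obtain ⟨j, hj, y, rfl⟩ := hz
    obtain ⟨d, hd⟩ := (bijective_iterateFrobenius (R := K) (p := p) j).2 c
    rw [iterateFrobenius_def] at hd
    convert delta_mem_gen K A p hj (d • y) using 1
    unfold delta
    rw [Derivation.map_smul, smul_pow, smul_assoc, ← smul_comm d (y ^ (p ^ j - 1)), smul_smul, ← pow_succ,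
      Nat.sub_add_cancel (Nat.one_le_pow _ _ (Fact.out : p.Prime).pos), hd]
  | zero => simp
  | add a b _ _ ha hb => rw [smul_add]; exact add_mem ha hb
  | neg a _ ha => rw [smul_neg]; exact neg_mem ha

end Groth.Agent.PDiff
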